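import Cfsg.Agent.Lib.LangSteinberg.TorusData

/-!
# Regularity and uniqueness up to a small multiplier
-/

set_option autoImplicit false

namespace Cfsg.Agent.TorusE6E7

open Cfsg.Lie Cfsg.Agent.LangSteinberg TorusData

variable {T : TorusData} {D : ChevalleyDatum}

theorem natAbs_comb_le {B q : ℕ} (hq : 1 ≤ q) : ∀ {l : ℕ} (a : ℕ → ℤ), (∀ j < l, (a j).natAbs ≤ B) →
    (q - 1) * (∑ j ∈ Finset.range l, a j * (q : ℤ) ^ j).natAbs + B ≤ B * q ^ l := by
  intro l
  induction l with
  | zero => intro a _; simp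
  | succ l ih =>
    intro a ha
    have h1 := ih (fun j => a (j + 1)) fun j hj => ha _ (by omega)
    have e : ∑ j ∈ Finset.range (l + 1), a j * (q : ℤ) ^ j =
        a 0 + (q : ℤ) * ∑ j ∈ Finset.range l, a (j + 1) * (q : ℤ) ^ j := by
      rw [Finset.sum_range_succ', Finset.mul_sum, pow_zero, mul_one, add_comm]
      exact congrArg _ (Finset.sum_congr rfl fun j _ => by ring)
    have h2 : (∑ j ∈ Finset.range (l + 1), a j * (q : ℤ) ^ j).natAbs ≤
        B + q * (∑ j ∈ Finset.range l, a (j + 1) * (q : ℤ) ^ j).natAbs := by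
      rw [e]
      refine (Int.natAbs_add_le _ _).trans (Nat.add_le_add (ha 0 (by omega)) ?_)
      rw [Int.natAbs_mul, Int.natAbs_natCast]
    set S := (∑ j ∈ Finset.range l, a (j + 1) * (q : ℤ) ^ j).natAbs
    obtain ⟨p, rfl⟩ : ∃ p, q = p + 1 := ⟨q - 1, by omega⟩
    rw [Nat.add_sub_cancel] at h1 ⊢
    calc p * _ + B ≤ p * (B + (p + 1) * S) + B := by gcongr
      _ = (p + 1) * (p * S + B) := by ring
      _ ≤ (p + 1) * (B * (p + 1) ^ l) := Nat.mul_le_mul_left _ h1
      _ = _ := by ring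

/-- For `q` beyond the coefficients the conditions hold for every multiplier up to `d`. -/
theorem large_unique (h : T.Checked D) {q b d : ℕ} {γ : ℕ} (hγ0 : 0 < γ) (hγ : γ ≤ d)
    (hq : 2 * (d * (b + 1)) + 1 ≤ q) (hb : ∀ s < D.nroots, ∀ j < D.rank, (T.ac s j).natAbs ≤ b)
    (hsz : (q : ℤ) ^ D.rank ≤ 2 * T.size D q) :
    (∀ s < D.nroots, ¬ T.size D q ∣ (γ : ℤ) * T.expo D q s) ∧
      ∀ s < D.nroots, T.size D q ∣ (γ : ℤ) * (T.expo D q s - 1) → s = T.alpha := by
  set B := d * (b + 1) with hB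
  have key : ∀ a : ℕ → ℤ, (∀ j < D.rank, (a j).natAbs ≤ B) →
      T.size D q ∣ (∑ j ∈ Finset.range D.rank, a j * (q : ℤ) ^ j) → ∀ j < D.rank, a j = 0 := by
    intro a ha hdvd
    refine (small_comb (show B < q by omega) a ha).2 (Int.eq_zero_of_dvd_of_natAbs_lt_natAbs hdvd ?_)
    have h1 := natAbs_comb_le (show 1 ≤ q by omega) a ha
    set S := (∑ j ∈ Finset.range D.rank, a j * (q : ℤ) ^ j).natAbs
    have h2 : (q : ℤ) ^ D.rank ≤ 2 * (T.size D q).natAbs := by
      have := Int.le_natAbs (a := T.size D q); omega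
    have h3 : q ^ D.rank ≤ 2 * (T.size D q).natAbs := by exact_mod_cast h2
    by_contra hc
    rw [not_lt] at hc
    have h5 : 2 * B ≤ q - 1 := by omega
    have h6 : 0 < q ^ D.rank := Nat.pow_pos (by omega)
    have hBpos : 0 < B := by rw [hB]; exact Nat.mul_pos (by omega) (by omega)
    have h7 : q ^ D.rank ≤ 2 * S := h3.trans (Nat.mul_le_mul_left 2 hc)
    have h8 : B * q ^ D.rank ≤ (q - 1) * S :=
      calc B * q ^ D.rank ≤ B * (2 * S) := Nat.mul_le_mul_left _ h7
        _ = 2 * B * S := by ring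
        _ ≤ (q - 1) * S := Nat.mul_le_mul_right _ h5
    omega
  have hmul : ∀ (a : ℕ → ℤ), (∀ j < D.rank, (a j).natAbs ≤ b + 1) →
      ∀ j < D.rank, ((γ : ℤ) * a j).natAbs ≤ B := fun a ha j hj => by
    rw [Int.natAbs_mul, Int.natAbs_natCast]
    exact Nat.mul_le_mul hγ (ha j hj)
  have hγ' : (γ : ℤ) ≠ 0 := by omega
  constructor
  · intro s hs hd
    rw [expo, list_range_sum_eq, Finset.mul_sum] at hd
    simp only [← mul_assoc] at hd
    have h0 := key (fun j => (γ : ℤ) * T.ac s j)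
      (hmul _ fun j hj => (hb s hs j hj).trans (Nat.le_succ b)) hd
    obtain ⟨k, hk, hne⟩ := h.coord_ne s hs
    refine hne ?_
    rw [h.coord_orb s hs k hk, list_range_sum_eq]
    refine Finset.sum_eq_zero fun j hj => ?_
    rw [(mul_eq_zero.1 (h0 j (Finset.mem_range.1 hj))).resolve_left hγ', zero_mul]
  · intro s hs hd
    have hinj : ∀ s < D.nroots, ∀ s' < D.nroots, (∀ j < D.rank, T.ac s j = T.ac s' j) → s = s' := by
      intro s hs s' hs' he
      have hnd := h.coord_nodup
      rw [List.nodup_map_iff_inj_on List.nodup_range] at hnd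
      refine hnd s (List.mem_range.2 hs) s' (List.mem_range.2 hs') (List.map_congr_left fun k hk => ?_)
      rw [h.coord_orb s hs k (List.mem_range.1 hk), h.coord_orb s' hs' k (List.mem_range.1 hk)]
      exact congrArg List.sum (List.map_congr_left fun j hj => by rw [he j (List.mem_range.1 hj)])
    refine hinj s hs _ h.alpha_lt fun j hj => ?_
    have e : T.expo D q T.alpha = (q : ℤ) ^ 0 := expo_base h q (j := 0) h.rank_pos
    rw [pow_zero] at e
    rw [← e, expo, expo, list_range_sum_eq, list_range_sum_eq, ← Finset.sum_sub_distrib, Finset.mul_sum] at hd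
    simp only [← sub_mul, ← mul_assoc] at hd
    have h0 := key (fun j => (γ : ℤ) * (T.ac s j - T.ac T.alpha j)) (hmul _ fun i hi => ?_) hd j hj
    · exact sub_eq_zero.1 ((mul_eq_zero.1 h0).resolve_left hγ')
    refine (Int.natAbs_sub_le _ _).trans (Nat.add_le_add (hb s hs i hi) ?_)
    rw [show T.alpha = T.base D 0 from rfl, h.base_orb 0 h.rank_pos i hi]
    split_ifs <;> simp

end Cfsg.Agent.TorusE6E7
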