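import Cfsg.Agent.Lib.LangSteinberg.TwistedTorus

/-!
# Fixed points in adjoint groups modulo the group over the finite field
-/

set_option autoImplicit false

namespace Cfsg.Agent.TorusE6E7

open Cfsg.Lie Cfsg.Agent.Chev Cfsg.Agent.Chev.BNSetup Cfsg.Agent.LangSteinberg

variable {D : ChevalleyDatum} (hG : Good D) {tabs simps : List ℕ} (hf : Facts D tabs simps)
  {F k : Type*} [Field F] [Fintype F] [Field k] (ι : F →+* k) (σ : k ≃+* k)

theorem prod_zpow_sum {G₀ : Type*} [CommGroup G₀] (g : G₀) (f : ℕ → ℤ) (n : ℕ) :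
    ∏ j ∈ Finset.range n, g ^ f j = g ^ ∑ j ∈ Finset.range n, f j := by
  induction n with
  | zero => simp
  | succ n ih => rw [Finset.prod_range_succ, Finset.sum_range_succ, ih, _root_.zpow_add]

include hG in
/-- For a Cartan matrix with inverse `Bm / d` every assignment of `d`-th powers occurs. -/
theorem exists_chi_simple_of_roots {d : ℕ} (Bm : ℕ → ℕ → ℤ)
    (hBm : ∀ j < D.rank, ∀ l < D.rank,
      ∑ i ∈ Finset.range D.rank, Bm j i * D.cartan i (D.simple l) = if j = l then (d : ℤ) else 0)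
    {K : Type*} [Field K] (v : Fin D.rank → Kˣ) : ∃ t ∈ D.diagonalSubgroup K,
      ∀ j : Fin D.rank, chi t ⟨D.simple j.val, hG.simple_lt j.2⟩ = ((v j ^ d : Kˣ) : K) := by
  let v' : ℕ → Kˣ := fun j => if hj : j < D.rank then v ⟨j, hj⟩ else 1
  let τ : ℕ → Kˣ := fun i => ∏ j ∈ Finset.range D.rank, v' j ^ Bm j i
  refine ⟨torElt hG τ, torElt_mem hG τ, fun l => ?_⟩
  rw [chi_torElt hG, Fin.prod_univ_eq_prod_range (fun i => τ i ^ D.cartan i (D.simple l.val))]
  refine congrArg Units.val ?_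
  simp only [τ, ← Finset.prod_zpow, ← _root_.zpow_mul]
  rw [Finset.prod_comm, Finset.prod_congr rfl fun j _ => prod_zpow_sum (v' j) _ _,
    Finset.prod_eq_single_of_mem l.val (Finset.mem_range.2 l.2)]
  · rw [hBm l.val l.2 l.val l.2, if_pos rfl, zpow_natCast]
    simp [v']
  · intro j hj hne
    rw [hBm j (Finset.mem_range.1 hj) l.val l.2, if_neg hne, zpow_zero]

include hG hf in
/-- The `d`-th power of a fixed element lies in the image of the group over the finite field. -/
theorem pow_mem_image (hσ : ∀ t, σ t = t ^ Fintype.card F) {d : ℕ} (Bm : ℕ → ℕ → ℤ)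
    (hBm : ∀ i < D.rank, ∀ j < D.rank,
      ∑ l ∈ Finset.range D.rank, D.cartan i (D.simple l) * Bm l j = if i = j then (d : ℤ) else 0)
    {x : GL D.Idx k} (hx : x ∈ D.group k) (hfix : entryMap D (σ : k →+* k) x = x) :
    x ^ d ∈ (D.group F).map (entryMap D ι) := by
  classical
  set I := (D.group F).map (entryMap D ι) with hI
  set Df := D.diagonalSubgroup k ⊓ (entryMap D (σ : k →+* k)).eqLocus (MonoidHom.id (GL D.Idx k)) with hDf
  have hfr : fixedRoots hG σ ≤ I := by
    rw [fixedRoots, Subgroup.closure_le]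
    rintro _ ⟨r, hr, t, ht, rfl⟩
    rw [hσ] at ht
    obtain ⟨s, rfl⟩ := (mem_range_iff_pow_card ι t).2 ht
    exact ⟨_, xe_mem_group hG hr s, entryMap_xe hG ι r s⟩
  have hnorm : Df ≤ Subgroup.normalizer (I : Set (GL D.Idx k)) := by
    have key : ∀ h ∈ Df, ∀ z ∈ I, h * z * h⁻¹ ∈ I := by
      rintro h hh z ⟨y, hy, rfl⟩
      rw [group_eq_closure_xe hG] at hy
      induction hy using Subgroup.closure_induction with
      | mem y hy =>
        obtain ⟨r, hr, t, rfl⟩ := hy
        obtain ⟨hhT, hhf⟩ := hh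
        rw [entryMap_xe hG, conj_xe hG hhT ⟨r, hr⟩]
        have hc : chi h (⟨r, hr⟩ : Fin D.nroots) ^ Fintype.card F = chi h ⟨r, hr⟩ := by
          rw [← hσ]
          exact Matrix.ext_iff.2 (congrArg Units.val hhf) _ _
        obtain ⟨s, hs⟩ := (mem_range_iff_pow_card ι _).2 hc
        exact ⟨xe hG r (s * t), xe_mem_group hG hr _, by rw [entryMap_xe hG, map_mul, hs]⟩
      | one => rw [map_one, mul_one, mul_inv_cancel]; exact one_mem I
      | mul a b _ _ iha ihb => rw [map_mul, ← conj_mul]; exact mul_mem iha ihb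
      | inv a _ ih => rw [map_inv, ← conj_inv]; exact inv_mem ih
    intro h hh
    refine Subgroup.mem_normalizer_iff.2 fun z => ⟨key h hh z, fun hz => ?_⟩
    simpa [mul_assoc] using key h⁻¹ (inv_mem hh) _ hz
  have h1 : x ∈ I ⊔ Df := sup_le_sup_right hfr _ (fixed_mem_roots_torus hG hf σ hx hfix)
  rw [sup_comm, ← SetLike.mem_coe, Subgroup.coe_mul_of_left_le_normalizer_right _ _ hnorm, Set.mem_mul] at h1
  obtain ⟨h, hh, i, hi, rfl⟩ := h1
  have hp : ∀ n : ℕ, (h ^ n)⁻¹ * (h * i) ^ n ∈ I := by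
    intro n
    induction n with
    | zero => simp
    | succ n ih =>
      have h2 := (Subgroup.mem_normalizer_iff.1 (hnorm (inv_mem hh)) _).1 ih
      rw [inv_inv] at h2
      rw [pow_succ, pow_succ]
      have h3 := mul_mem h2 hi
      rwa [show h⁻¹ * ((h ^ n)⁻¹ * (h * i) ^ n) * h * i = (h ^ n * h)⁻¹ * ((h * i) ^ n * (h * i)) by group] at h3
  have hd : h ^ d ∈ I := by
    obtain ⟨hhT, hhf⟩ := hh
    obtain ⟨τ, hτ⟩ := exists_torElt hG hhT
    have hτF : ∀ l < D.rank, ∃ s : F, s ≠ 0 ∧ ι s = ((τ l ^ d : kˣ) : k) := by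
      intro l hl
      have e : τ l ^ (d : ℤ) = ∏ j ∈ Finset.range D.rank,
          (∏ i ∈ Finset.range D.rank, τ i ^ D.cartan i (D.simple j)) ^ Bm j l := by
        simp only [← Finset.prod_zpow, ← _root_.zpow_mul]
        rw [Finset.prod_comm, Finset.prod_congr rfl fun i _ => prod_zpow_sum (τ i) _ _,
          Finset.prod_eq_single_of_mem l (Finset.mem_range.2 hl)]
        · rw [hBm l hl l hl, if_pos rfl]
        · intro i hi hne
          rw [hBm i (Finset.mem_range.1 hi) l hl, if_neg hne, zpow_zero]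
      have hfixu : Units.map (σ : k →* k) (τ l ^ (d : ℤ)) = τ l ^ (d : ℤ) := by
        rw [e, map_prod]
        refine Finset.prod_congr rfl fun j hj => ?_
        rw [map_zpow]
        congr 1
        refine Units.ext ?_
        have hj' := hG.simple_lt (Finset.mem_range.1 hj)
        rw [← Fin.prod_univ_eq_prod_range (fun i => τ i ^ D.cartan i (D.simple j))]
        show σ _ = _
        rw [← chi_torElt hG τ ⟨_, hj'⟩, ← hτ]
        exact Matrix.ext_iff.2 (congrArg Units.val hhf) _ _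
      have h4 := congrArg Units.val hfixu
      rw [zpow_natCast] at h4
      change σ _ = _ at h4
      rw [hσ] at h4
      obtain ⟨s, hs⟩ := (mem_range_iff_pow_card ι _).2 h4
      exact ⟨s, fun h0 => (τ l ^ d).ne_zero (by rw [← hs, h0, map_zero]), hs⟩
    have e2 : h ^ d = torElt hG (fun i => τ i ^ d) := by
      refine diagonal_ext hG (pow_mem hhT d) (torElt_mem hG _) fun r => ?_
      rw [chi_pow hG hhT, hτ, chi_torElt hG, chi_torElt hG, ← Units.val_pow_eq_pow_val, ← Finset.prod_pow]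
      refine congrArg Units.val (Finset.prod_congr rfl fun i _ => ?_)
      rw [← zpow_natCast, ← zpow_natCast, ← _root_.zpow_mul, ← _root_.zpow_mul, mul_comm]
    rw [e2, torElt]
    refine list_prod_mem fun y hy => ?_
    obtain ⟨l, hl, rfl⟩ := List.mem_map.1 hy
    obtain ⟨s, hs0, hs⟩ := hτF l (List.mem_range.1 hl)
    refine ⟨he hG (D.simple l) s, ?_, by rw [entryMap_he hG, hs]⟩
    rw [← data_grp hG]
    exact (axioms hG hf).H_le (he_mem_H hG (hG.simple_lt (List.mem_range.1 hl)) hs0)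
  simpa [mul_assoc] using mul_mem hd (hp d)

/-- Rigidity when `α` alone has exponent one, up to a multiplier. -/
theorem base_of_unique {T : TorusData} (h : T.Checked D) {q : ℕ} {γ : ℤ}
    (hw : ∀ s < D.nroots, T.wperm D s < D.nroots)
    (hsurj : ∀ s < D.nroots, ∃ s' < D.nroots, T.wperm D s' = s)
    (hu : ∀ s < D.nroots, T.size D q ∣ γ * (T.expo D q s - 1) → s = T.alpha) :
    ∀ (i : ℕ) (s : ℕ), s < D.nroots → T.size D q ∣ γ * (T.expo D q s - (q : ℤ) ^ i) → s = T.base D i := by
  intro i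
  induction i with
  | zero => intro s hs hd; rw [pow_zero] at hd; exact hu s hs hd
  | succ i ih =>
    intro s hs hd
    obtain ⟨s', hs', rfl⟩ := hsurj s hs
    rw [TorusData.expo_wperm h q hs'] at hd
    have hd' : T.size D q ∣ (q : ℤ) * (γ * (T.expo D q s' - (q : ℤ) ^ i)) := by
      have := dvd_add hd (dvd_mul_left (T.size D q) (γ * T.ac s' (D.rank - 1)))
      rwa [show γ * ((q : ℤ) * T.expo D q s' - T.ac s' (D.rank - 1) * T.size D q - (q : ℤ) ^ (i + 1)) +
        γ * T.ac s' (D.rank - 1) * T.size D q = (q : ℤ) * (γ * (T.expo D q s' - (q : ℤ) ^ i)) by ring] at this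
    have hcop : IsCoprime (T.size D q) (q : ℤ) := by
      obtain ⟨l, hl⟩ : ∃ l, D.rank = l + 1 := ⟨D.rank - 1, by have := h.rank_pos; omega⟩
      refine ⟨1, -((q : ℤ) ^ l + ∑ j ∈ Finset.range l, T.g.getD (j + 1) 0 * (q : ℤ) ^ j), ?_⟩
      rw [TorusData.size, TorusData.list_range_sum_eq, hl, Finset.sum_range_succ', h.g_zero, one_mul, neg_mul,
        add_mul, Finset.sum_mul, Finset.sum_congr rfl fun j (_ : j ∈ Finset.range l) =>
        show T.g.getD (j + 1) 0 * (q : ℤ) ^ j * q = T.g.getD (j + 1) 0 * (q : ℤ) ^ (j + 1) by ring]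
      ring
    exact congrArg (T.wperm D) (ih s' hs' (hcop.dvd_of_dvd_mul_left hd'))

end Cfsg.Agent.TorusE6E7
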