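import Cfsg.Agent.Lib.TorusE6E7.Fixed
import Cfsg.Agent.Lib.Chev.Steinberg.Center
import Cfsg.Agent.Lib.Chev.Steinberg.Embed

/-!
# The obstruction: a root of a larger system restricting to a weight
-/

set_option autoImplicit false

namespace Cfsg.Agent.TorusE6E7

open Cfsg.Lie Cfsg.Agent.Chev Cfsg.Agent.Chev.BNSetup Cfsg.Agent.LangSteinberg

variable {D D8 : ChevalleyDatum}

/-- The map of the presented group into the larger group, on all generators. -/
theorem exists_emb_hom_gen {F : Type*} [Field F] (hE : Good D) (hD : Good D8) (e : RootEmb D D8) :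
    ∃ ψ : D.SteinbergGroup F →* GL D8.Idx F, ∀ r < D.nroots, ∀ t : F,
      ψ (D.stGen F r t) = xg D8 F (e.m r) t := by
  let f : Fin D.nroots × F → GL D8.Idx F := fun p => xg D8 F (e.m p.1.val) p.2
  have hW : ∀ w : List (ℕ × F), (∀ p ∈ w, p.1 < D.nroots) →
      FreeGroup.lift f (D.stWord w) = wordG D8 F (w.map fun p => (e.m p.1, p.2)) := by
    intro w hw
    rw [ChevalleyDatum.stWord, map_list_prod, wordG, List.map_map, List.map_map]
    refine congrArg List.prod (List.map_congr_left fun p hp => ?_)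
    simp [ChevalleyDatum.stX, hw p hp, f]
  have hX : ∀ r < D.nroots, ∀ t, FreeGroup.lift f (D.stX r t) = xg D8 F (e.m r) t := by
    intro r hr t
    simp [ChevalleyDatum.stX, hr, f]
  have hH : ∀ r < D.nroots, ∀ t, FreeGroup.lift f (D.stH r t) = hG D8 F (e.m r) t := by
    intro r hr t
    rw [ChevalleyDatum.stH, hW _ (by simp [ChevalleyDatum.hWord, ChevalleyDatum.nWord, hr, hE.neg_lt hr])]
    simp [hG, ChevalleyDatum.hWord, ChevalleyDatum.nWord, e.map_neg r hr]
  have hrels : ∀ g ∈ D.steinbergRels F, FreeGroup.lift f g = 1 := by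
    intro g hg
    rcases hg with (⟨r, t₁, t₂, hr, rfl⟩ | ⟨r, s, t, u, hr, hs, h1, h2, rfl⟩) | ⟨r, t₁, t₂, hr, h1, h2, rfl⟩
    · simp only [map_mul, map_inv, hX r hr, hD.xg_add, mul_inv_cancel]
    · have hw : ∀ p ∈ D.commWord F r s t u, p.1 < D.nroots := by
        intro p hp
        obtain ⟨x, hx, rfl⟩ := List.mem_map.1 hp
        exact hE.commTerms_lt hr hs hx
      have he : (D.commWord F r s t u).map (fun p => (e.m p.1, p.2)) = D8.commWord F (e.m r) (e.m s) t u := by
        simp only [ChevalleyDatum.commWord, e.map_comm r hr s hs, List.map_map]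
        rfl
      simp only [map_mul, map_inv, hX r hr, hX s hs, hW _ hw, he]
      rw [hD.xg_commutator (e.lt r hr) (e.lt s hs) (fun h => h1 (e.inj s hs r hr h))
        (fun h => h2 (e.inj s hs _ (hE.neg_lt hr) (by rw [e.map_neg r hr]; exact h))), mul_inv_cancel]
    · simp only [map_mul, map_inv, hH r hr, hD.hG_mul (e.lt r hr) h1 h2, mul_inv_cancel]
  refine ⟨PresentedGroup.toGroup hrels, fun r hr t => ?_⟩
  rw [← hX r hr t]
  rfl

/-- The orbit of a root of the larger system under the same word. -/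
def orb8 (T : TorusData) (D8 : ChevalleyDatum) (β : ℕ) : ℕ → ℕ
  | 0 => β
  | j + 1 => T.wperm D8 (orb8 T D8 β j)

/-- The obstruction data. -/
structure ObsData (T : TorusData) (D D8 : ChevalleyDatum) (β : ℕ) (c : List ℤ) : Prop where
  lt : β < D8.nroots
  comb : ∀ i < D.rank, D.cartan i T.alpha =
    ((List.range D.rank).map fun j => c.getD j 0 * D8.cartan i (orb8 T D8 β j)).sum
  ann : ∀ i < D.rank, D8.cartan i (orb8 T D8 β D.rank) +
    ((List.range D.rank).map fun j => T.g.getD j 0 * D8.cartan i (orb8 T D8 β j)).sum = 0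

/-- Every element is a product of root elements. -/
theorem exists_xe_list (hE : Good D) {R : Type*} [Field R] {z : GL D.Idx R} (hz : z ∈ D.group R) :
    ∃ L : List (ℕ × R), (∀ p ∈ L, p.1 < D.nroots) ∧ z = (L.map fun p => xe hE p.1 p.2).prod := by
  rw [group_eq_closure_xe hE] at hz
  induction hz using Subgroup.closure_induction with
  | mem z hz =>
    obtain ⟨r, hr, u, rfl⟩ := hz
    exact ⟨[(r, u)], by simpa using hr, by simp⟩
  | one => exact ⟨[], by simp, by simp⟩
  | mul a b _ _ iha ihb =>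
    obtain ⟨La, hLa, rfl⟩ := iha
    obtain ⟨Lb, hLb, rfl⟩ := ihb
    exact ⟨La ++ Lb, fun p hp => (List.mem_append.1 hp).elim (hLa p) (hLb p), by simp⟩
  | inv a _ iha =>
    obtain ⟨La, hLa, rfl⟩ := iha
    refine ⟨La.reverse.map fun p => (p.1, -p.2), fun p hp => ?_, ?_⟩
    · obtain ⟨p', hp', rfl⟩ := List.mem_map.1 hp
      exact hLa p' (List.mem_reverse.1 hp')
    · rw [List.prod_inv_reverse, List.map_map, List.map_map, ← List.map_reverse]
      exact congrArg List.prod (List.map_congr_left fun p hp => xe_inv hE (hLa p (List.mem_reverse.1 hp)) _)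

variable (hE : Good D) {tabs simps : List ℕ} (hf : Facts D tabs simps) (hst : StData D)
  (hD : Good D8) {tabs8 simps8 : List ℕ} (hf8 : Facts D8 tabs8 simps8) (e : RootEmb D D8)
  {T : TorusData} (hT : T.Checked D) {β : ℕ} {c : List ℤ} (hO : ObsData T D D8 β c)

include hE hf hst hD hf8 e hT hO in
/-- A lift of a twisted fixed torus element gives a root of unity with the prescribed power. -/
theorem exists_root {F k : Type*} [Field F] [Field k] (ι : F →+* k) (σ : k ≃+* k) {q : ℕ}
    (hσ : ∀ t, σ t = t ^ q) (hσι : ∀ s, σ (ι s) = ι s) {t g n : GL D.Idx k} (ht : t ∈ D.diagonalSubgroup k)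
    {l₀ : List (Fin D.rank)} (hl₀ : l₀.map Fin.val = T.word) (hn : n = (data hE k).nw l₀)
    (hg : g ∈ D.group k) (hgn : entryMap D (σ : k →+* k) g = g * n)
    {y : GL D.Idx F} (hy : y ∈ D.group F) (hyt : entryMap D ι y = g * t * g⁻¹) :
    ∃ x : kˣ, x ^ T.size D q = 1 ∧
      chi t (⟨T.alpha, hT.alpha_lt⟩ : Fin D.nroots) =
        ((x ^ ∑ j ∈ Finset.range D.rank, c.getD j 0 * (q : ℤ) ^ j : kˣ) : k) := by
  classical
  obtain ⟨θ₀, -, hθ₀⟩ := hE.exists_steinberg_hom (F := k)
  set θ := (D.group k).subtype.comp θ₀ with hθdef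
  have hθ : ∀ r < D.nroots, ∀ t : k, θ (D.stGen k r t) = xg D k r t := fun r hr t => hE.eq_xg (hθ₀ r t hr)
  let S := steinbergModel D k θ hθ
  obtain ⟨ψ, hψ⟩ := exists_emb_hom_gen (F := k) hE hD e
  have hgen := closure_stGen D k
  have hker := S.ker_le_Hbar hE hf hst hgen
  have hcen := S.ker_le_center hE hf hst hgen
  have hψx : ∀ r < D.nroots, ∀ u : k, ψ (S.x r u) = xe hD (e.m r) u := fun r hr u =>
    (hψ r hr u).trans (Units.ext (hD.coe_xg _ u))
  -- lifts of words
  let lift : List (ℕ × k) → D.SteinbergGroup k := fun L => (L.map fun p => S.x p.1 p.2).prod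
  have hθL : ∀ L : List (ℕ × k), (∀ p ∈ L, p.1 < D.nroots) →
      S.θ (lift L) = (L.map fun p => xe hE p.1 p.2).prod := by
    intro L hL
    rw [map_list_prod, List.map_map]
    exact congrArg List.prod (List.map_congr_left fun p hp => S.map_x' hE (hL p hp) _)
  have hψL : ∀ L : List (ℕ × k), (∀ p ∈ L, p.1 < D.nroots) →
      ψ (lift L) = (L.map fun p => xe hD (e.m p.1) p.2).prod := by
    intro L hL
    rw [map_list_prod, List.map_map]
    exact congrArg List.prod (List.map_congr_left fun p hp => hψx _ (hL p hp) _)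
  obtain ⟨Lg, hLg, hgL⟩ := exists_xe_list hE hg
  obtain ⟨Ly, hLy, hyL⟩ := exists_xe_list hE hy
  set g' := lift Lg with hg'
  set gσ := lift (Lg.map fun p => (p.1, σ p.2)) with hgσ
  set y' := lift (Ly.map fun p => (p.1, ι p.2)) with hy'
  have hLgσ : ∀ p ∈ Lg.map fun p => (p.1, σ p.2), p.1 < D.nroots := by
    intro p hp; obtain ⟨p', hp', rfl⟩ := List.mem_map.1 hp; exact hLg p' hp'
  have hLyι : ∀ p ∈ Ly.map fun p => (p.1, ι p.2), p.1 < D.nroots := by
    intro p hp; obtain ⟨p', hp', rfl⟩ := List.mem_map.1 hp; exact hLy p' hp'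
  have hθg : S.θ g' = g := (hθL _ hLg).trans hgL.symm
  have hθgσ : S.θ gσ = g * n := by
    rw [hθL _ hLgσ, ← hgn, hgL, map_list_prod, List.map_map, List.map_map]
    exact congrArg List.prod (List.map_congr_left fun p _ => by
      simp only [Function.comp_apply, entryMap_xe hE]; rfl)
  have hθy : S.θ y' = g * t * g⁻¹ := by
    rw [hθL _ hLyι, ← hyt, hyL, map_list_prod, List.map_map, List.map_map]
    exact congrArg List.prod (List.map_congr_left fun p _ => by
      simp only [Function.comp_apply, entryMap_xe hE])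
  have hσg : entryMap D8 (σ : k →+* k) (ψ g') = ψ gσ := by
    rw [hψL _ hLg, hψL _ hLgσ, map_list_prod, List.map_map, List.map_map]
    exact congrArg List.prod (List.map_congr_left fun p _ => entryMap_xe hD _ _ _)
  have hσy : entryMap D8 (σ : k →+* k) (ψ y') = ψ y' := by
    rw [hψL _ hLyι, map_list_prod]
    simp only [List.map_map]
    refine congrArg List.prod (List.map_congr_left fun p _ => ?_)
    show entryMap D8 (σ : k →+* k) (xe hD (e.m p.1) (ι p.2)) = _
    rw [entryMap_xe hD]
    exact congrArg _ (hσι _)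
  -- the lift of the Weyl element
  let l8 : List (Fin D8.rank) := l₀.map fun i => ⟨i.val, lt_of_lt_of_le i.2 e.rank_le⟩
  have hnn : ∀ i : Fin D.rank, S.θ (S.n (D.simple i.val) 1) = ne' hE (D.simple i.val) 1 := by
    intro i
    rw [S.map_n hE (hE.simple_lt i.2)]
    exact Units.ext ((hE.coe_nG _ _).trans (coe_ne' hE _ _).symm)
  have hn8 : ∀ i : Fin D.rank, ψ (S.n (D.simple i.val) 1) = ne' hD (D8.simple i.val) 1 := by
    intro i
    have hi := hE.simple_lt i.2
    rw [StModel.n, map_mul, map_mul, hψx _ hi, hψx _ (hE.neg_lt hi), e.map_neg _ hi, e.map_simple _ i.2]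
    rfl
  let n' : D.SteinbergGroup k := (l₀.map fun i => S.n (D.simple i.val) 1).prod
  have hθn : S.θ n' = n := by
    rw [hn, map_list_prod, List.map_map]
    exact congrArg List.prod (List.map_congr_left fun i _ => hnn i)
  have hψn : ψ n' = (data hD k).nw l8 := by
    rw [map_list_prod, RootBN.Data.nw, List.map_map, List.map_map]
    exact congrArg List.prod (List.map_congr_left fun i _ => hn8 i)
  set z := n'⁻¹ * g'⁻¹ * gσ with hz
  have hzker : z ∈ S.θ.ker := by
    rw [MonoidHom.mem_ker, hz, map_mul, map_mul, map_inv, map_inv, hθn, hθg, hθgσ]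
    group
  set yt := g'⁻¹ * y' * g' with hyt'
  have hθyt : S.θ yt = t := by
    rw [hyt', map_mul, map_mul, map_inv, hθg, hθy]
    group
  have hrel : gσ⁻¹ * y' * gσ = n'⁻¹ * yt * n' := by
    have hzc : ∀ w, z * w = w * z := fun w => (Subgroup.mem_center_iff.1 (hcen hzker) w).symm
    calc gσ⁻¹ * y' * gσ = z⁻¹ * (n'⁻¹ * yt * n') * z := by rw [hz, hyt']; group
      _ = z⁻¹ * (z * (n'⁻¹ * yt * n')) := by rw [mul_assoc, hzc]
      _ = _ := inv_mul_cancel_left _ _
  set Y := ψ yt with hY
  set N := (data hD k).nw l8 with hN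
  have hσY : entryMap D8 (σ : k →+* k) Y = N⁻¹ * Y * N := by
    simp only [hY, hyt', map_mul, map_inv, hσg, hσy]
    rw [← map_inv, ← map_mul, ← map_mul, hrel, map_mul, map_mul, map_inv, hψn, hyt', map_mul, map_mul, map_inv]
  -- the two tori
  have key : ∀ w ∈ S.Hbar, S.θ w ∈ D.diagonalSubgroup k ∧ ψ w ∈ D8.diagonalSubgroup k ∧
      ∃ τ : ℕ → kˣ, (∀ r : Fin D.nroots,
          chi (S.θ w) r = ((∏ i ∈ Finset.range D.rank, τ i ^ D.cartan i r.val : kˣ) : k)) ∧
        ∀ r : Fin D8.nroots,
          chi (ψ w) r = ((∏ i ∈ Finset.range D.rank, τ i ^ D8.cartan i r.val : kˣ) : k) := by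
    intro w hw
    induction hw using Subgroup.closure_induction with
    | mem w hw =>
      obtain ⟨i, u, hi, hu, rfl⟩ := hw
      have h1 : S.θ (S.h (D.simple i) u) = he hE (D.simple i) u := by
        rw [S.map_h hE (hE.simple_lt hi)]
        exact Units.ext ((hE.coe_hG _ _).trans (coe_he hE _ _).symm)
      have h2 : ψ (S.h (D.simple i) u) = he hD (D8.simple i) u := by
        have hi' := hE.simple_lt hi
        have h3 : ∀ v, ψ (S.n (D.simple i) v) = ne' hD (D8.simple i) v := fun v => by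
          rw [StModel.n, map_mul, map_mul, hψx _ hi', hψx _ (hE.neg_lt hi'), e.map_neg _ hi', e.map_simple _ hi]
          rfl
        rw [StModel.h, map_mul, h3, h3]
        rfl
      rw [h1, h2]
      have hi8 : i < D8.rank := lt_of_lt_of_le hi e.rank_le
      refine ⟨he_mem_H hE (hE.simple_lt hi) hu, he_mem_H hD (hD.simple_lt hi8) hu,
        fun j => if j = i then Units.mk0 u hu else 1, fun r => ?_, fun r => ?_⟩
      · rw [Finset.prod_eq_single_of_mem i (Finset.mem_range.2 hi) (fun j _ hne => by simp [hne])]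
        simp only [↓reduceIte]
        rw [chi_of_coe ((coe_he hE _ _).trans (hE.hMat_simple_eq hi hu)), Units.val_zpow_eq_zpow_val]
        rfl
      · rw [Finset.prod_eq_single_of_mem i (Finset.mem_range.2 hi) (fun j _ hne => by simp [hne])]
        simp only [↓reduceIte]
        rw [chi_of_coe ((coe_he hD _ _).trans (hD.hMat_simple_eq hi8 hu)), Units.val_zpow_eq_zpow_val]
        rfl
    | one =>
      refine ⟨by rw [map_one]; exact one_mem _, by rw [map_one]; exact one_mem _, fun _ => 1, fun r => ?_,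
        fun r => ?_⟩ <;> simp [chi_one]
    | mul a b _ _ iha ihb =>
      obtain ⟨ha1, ha2, τa, ha3, ha4⟩ := iha
      obtain ⟨hb1, hb2, τb, hb3, hb4⟩ := ihb
      refine ⟨by rw [map_mul]; exact mul_mem ha1 hb1, by rw [map_mul]; exact mul_mem ha2 hb2,
        fun i => τa i * τb i, fun r => ?_, fun r => ?_⟩
      · rw [map_mul, chi_mul hE ha1 hb1, ha3, hb3, ← Units.val_mul, ← Finset.prod_mul_distrib]
        simp [mul_zpow]
      · rw [map_mul, chi_mul hD ha2 hb2, ha4, hb4, ← Units.val_mul, ← Finset.prod_mul_distrib]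
        simp [mul_zpow]
    | inv a _ iha =>
      obtain ⟨ha1, ha2, τa, ha3, ha4⟩ := iha
      refine ⟨by rw [map_inv]; exact inv_mem ha1, by rw [map_inv]; exact inv_mem ha2,
        fun i => (τa i)⁻¹, fun r => ?_, fun r => ?_⟩
      · have h := chi_mul hE (inv_mem ha1) ha1 r
        rw [inv_mul_cancel, chi_one, ha3] at h
        rw [map_inv, eq_inv_of_mul_eq_one_left h.symm, ← Units.val_inv_eq_inv_val, ← Finset.prod_inv_distrib]
        simp [inv_zpow]
      · have h := chi_mul hD (inv_mem ha2) ha2 r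
        rw [inv_mul_cancel, chi_one, ha4] at h
        rw [map_inv, eq_inv_of_mul_eq_one_left h.symm, ← Units.val_inv_eq_inv_val, ← Finset.prod_inv_distrib]
        simp [inv_zpow]
  have hytH : yt ∈ S.Hbar := by
    obtain ⟨τ, hτ⟩ := exists_torElt hE ht
    let w := ((List.range D.rank).map fun i => S.h (D.simple i) (τ i : k)).prod
    have hw : w ∈ S.Hbar := list_prod_mem fun a ha => by
      obtain ⟨i, hi, rfl⟩ := List.mem_map.1 ha
      exact Subgroup.subset_closure ⟨i, (τ i : k), List.mem_range.1 hi, (τ i).ne_zero, rfl⟩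
    have hθw : S.θ w = t := by
      rw [hτ, torElt, map_list_prod, List.map_map]
      refine congrArg List.prod (List.map_congr_left fun i hi => ?_)
      show S.θ (S.h (D.simple i) (τ i : k)) = _
      rw [S.map_h hE (hE.simple_lt (List.mem_range.1 hi))]
      exact Units.ext ((hE.coe_hG _ _).trans (coe_he hE _ _).symm)
    have h := mul_mem (hker (show yt * w⁻¹ ∈ S.θ.ker by
      rw [MonoidHom.mem_ker, map_mul, map_inv, hθyt, hθw, mul_inv_cancel])) hw
    rwa [inv_mul_cancel_right] at h
  obtain ⟨-, hYT, τ, hτ1, hτ2⟩ := key yt hytH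
  -- the orbit of `β`
  have hwl : ∀ r : Fin D8.nroots, ((data hD k).wl l8 r).val = T.wperm D8 r.val := by
    intro r
    have key' : ∀ L : List (Fin D8.rank),
        ((data hD k).wl L r).val = (L.map Fin.val).foldr (fun i x => D8.reflectRoot i x) r.val := by
      intro L
      induction L with
      | nil => rfl
      | cons i L ih => rw [RootBN.Data.wl_cons, Equiv.Perm.mul_apply, data_refl, ih, List.map_cons, List.foldr_cons]
    rw [key', TorusData.wperm, ← hl₀, List.map_map]
    rfl
  have hlt : ∀ j, orb8 T D8 β j < D8.nroots := by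
    intro j
    induction j with
    | zero => exact hO.lt
    | succ j ih => rw [orb8, ← hwl ⟨_, ih⟩]; exact Fin.is_lt _
  have hσT : entryMap D8 (σ : k →+* k) Y ∈ D8.diagonalSubgroup k := by
    have h := RootBN.Data.N_conj_H (axioms (F := k) hD hf8)
      ((data hD k).N.inv_mem (RootBN.Data.nw_mem_N l8)) hYT
    rw [inv_inv] at h
    rw [hσY]
    exact h
  have hshift : ∀ r : Fin D8.nroots, chi Y ((data hD k).wl l8 r) = chi Y r ^ q := fun r => by
    have hYe : Y = N * entryMap D8 (σ : k →+* k) Y * N⁻¹ := by rw [hσY]; group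
    conv_lhs => rw [hYe]
    rw [hN, chi_nw_conj hD hf8 l8 hσT r]
    exact hσ _
  set x : kˣ := Units.mk0 (chi Y ⟨β, hO.lt⟩) (chi_ne_zero hD hYT _) with hx
  have horb : ∀ j, chi Y ⟨orb8 T D8 β j, hlt j⟩ = ((x ^ ((q : ℤ) ^ j) : kˣ) : k) := by
    intro j
    induction j with
    | zero => rw [pow_zero, zpow_one]; rfl
    | succ j ih =>
      rw [show (⟨orb8 T D8 β (j + 1), hlt (j + 1)⟩ : Fin D8.nroots) =
        (data hD k).wl l8 ⟨orb8 T D8 β j, hlt j⟩ from Fin.ext (hwl ⟨_, hlt j⟩).symm, hshift, ih,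
        ← Units.val_pow_eq_pow_val, ← zpow_natCast, ← _root_.zpow_mul, pow_succ]
  have horbτ : ∀ j, x ^ ((q : ℤ) ^ j) = ∏ i ∈ Finset.range D.rank, τ i ^ D8.cartan i (orb8 T D8 β j) :=
    fun j => Units.ext ((horb j).symm.trans (hτ2 ⟨_, hlt j⟩))
  refine ⟨x, ?_, ?_⟩
  · have h1 : x ^ T.size D q = ∏ i ∈ Finset.range D.rank, τ i ^ (D8.cartan i (orb8 T D8 β D.rank) +
        ((List.range D.rank).map fun j => T.g.getD j 0 * D8.cartan i (orb8 T D8 β j)).sum) := by
      rw [TorusData.size, _root_.zpow_add, horbτ, TorusData.list_range_sum_eq, ← prod_zpow_sum x]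
      simp only [_root_.zpow_add, Finset.prod_mul_distrib]
      congr 1
      rw [Finset.prod_congr rfl fun j _ => by
        rw [mul_comm, _root_.zpow_mul, horbτ, ← Finset.prod_zpow], Finset.prod_comm]
      refine Finset.prod_congr rfl fun i _ => ?_
      rw [TorusData.list_range_sum_eq, ← prod_zpow_sum (τ i)]
      refine Finset.prod_congr rfl fun j _ => ?_
      rw [← _root_.zpow_mul, mul_comm]
    rw [h1]
    exact Finset.prod_eq_one fun i hi => by rw [hO.ann i (Finset.mem_range.1 hi), zpow_zero]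
  · have h1 := hτ1 (⟨T.alpha, hT.alpha_lt⟩ : Fin D.nroots)
    rw [hθyt] at h1
    rw [h1]
    refine congrArg Units.val ?_
    symm
    rw [← prod_zpow_sum x, Finset.prod_congr rfl fun j (_ : j ∈ Finset.range D.rank) => by
      rw [mul_comm, _root_.zpow_mul, horbτ, ← Finset.prod_zpow], Finset.prod_comm]
    refine Finset.prod_congr rfl fun i hi => ?_
    rw [hO.comb i (Finset.mem_range.1 hi), TorusData.list_range_sum_eq, ← prod_zpow_sum (τ i)]
    refine Finset.prod_congr rfl fun j _ => ?_
    rw [← _root_.zpow_mul, mul_comm]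

end Cfsg.Agent.TorusE6E7
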