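import Cfsg.Agent.Lib.Chev.CheckE6
import Cfsg.Agent.Lib.Chev.CheckE8
import Cfsg.Agent.Lib.Chev.BNFacts
import Cfsg.Agent.Lib.Chev.Steinberg.Witness
import Cfsg.Agent.Lib.TorusE6E7.Check
import Cfsg.Agent.Lib.TorusE6E7.Main

/-!
# The twisted torus of type E6: tables
-/

set_option autoImplicit false
set_option maxRecDepth 100000
set_option maxHeartbeats 4000000

namespace Cfsg.Agent.TorusE6E7

open Cfsg.Lie Cfsg.Agent.LangSteinberg

/-- The tables. -/
def torusE6 : TorusData where
  word := [0, 1, 2, 3, 4, 5]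
  alpha := 8
  g := [1, 1, 0, -1, 0, 1]
  coord := [[7755367, 7755383, 7759479, 7825015, 8873591, 7759735, 7825271, 8873847, 7829367, 8877943, 8943479, 7829383, 8877959, 8943495, 8947591, 8947847], [7759736, 7825272, 8873848, 7829368, 8877944, 8943480, 7829624, 8878200, 8943736, 8947832, 7829384, 8877960, 8943496, 8947592, 7829640, 8878216], [8943752, 7833736, 8882312, 7899272, 9996424, 9013384, 10061960, 8951944, 9017480, 10066056, 8948104, 8952200, 9017736, 10066312, 8947864, 8951960], [9017496, 10066072, 8952216, 9017752, 10066328, 9021848, 10070424, 10135960, 8947849, 8948105, 8952201, 9017737, 10066313, 8952217, 9017753, 10066329], [9021849, 10070425, 10135961, 9022105, 10070681, 10136217, 10140313, 10140329]]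
  orb := [[8948121, 8952216, 7903624, 8947865, 7834008, 8952200, 9996441, 8882584, 8947849, 7833992, 8878233, 8951944, 7838087, 8882328, 7833736, 8882312], [9017736, 10061977, 8948120, 9013385, 7899528, 8943769, 10061961, 8948104, 9992345, 8943753, 9017480, 7903623, 8947864, 7899272, 10066056, 8952199], [9996440, 9017464, 7903607, 10061705, 7833991, 9992089, 8878232, 7899256, 8943497, 7829640, 9996424, 8947832, 9992073, 8878216, 8951943, 7903351], [8947592, 7833735, 8951927, 9996168, 8882311, 8947576, 7833719, 8877960, 9013384, 10061960, 9013368, 10057609, 8943752, 9017463, 10061704, 8947847], [9013112, 7899255, 8943496, 10061688, 8947831, 9992072, 8943480, 8947575]]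

/-- `3` times the inverse Cartan matrix. -/
def bmE6 (i j : ℕ) : ℤ := (([[4, 3, 5, 6, 4, 2], [3, 6, 6, 9, 6, 3], [5, 6, 10, 12, 8, 4], [6, 9, 12, 18, 12, 6], [4, 6, 8, 12, 10, 5], [2, 3, 4, 6, 5, 4]] : List (List ℤ)).getD i []).getD j 0

theorem bmE6_right : ∀ i < chevE6.rank, ∀ k < chevE6.rank,
    ((List.range chevE6.rank).map fun j => chevE6.cartan i (chevE6.simple j) * bmE6 j k).sum =
      if i = k then (3 : ℤ) else 0 := by decide +kernel

theorem bmE6_left : ∀ j < chevE6.rank, ∀ k < chevE6.rank,
    ((List.range chevE6.rank).map fun i => bmE6 j i * chevE6.cartan i (chevE6.simple k)).sum =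
      if j = k then (3 : ℤ) else 0 := by decide +kernel

theorem torusE6_checked : torusE6.Checked chevE6 where
  rank_pos := by decide +kernel
  word_lt := by decide +kernel
  alpha_lt := by decide +kernel
  g_zero := by decide +kernel
  cartan_eq := by decide +kernel
  refl_eq := by decide +kernel
  coord_nodup := by decide +kernel
  coord_orb := by decide +kernel
  orb_coord := by decide +kernel
  base_orb := by decide +kernel
  coord_ne := by decide +kernel
  shift := by decide +kernel

theorem torusE6_obs : ObsData torusE6 chevE6 chevE8 2 [1, -1, 0, 0, 0, 0] where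
  lt := by decide +kernel
  comb := by decide +kernel
  ann := by decide +kernel

theorem torusE6_sum :
    (3 : ℤ) ∣ ((List.range chevE6.rank).map fun j => ([1, -1, 0, 0, 0, 0] : List ℤ).getD j 0).sum := by decide +kernel

theorem torusE6_bound : ∀ s < chevE6.nroots, ∀ j < chevE6.rank, (torusE6.ac s j).natAbs ≤ 1 := by
  decide +kernel

theorem torusE6_small : ∀ q < 13, 2 ≤ q →
    (∀ s < chevE6.nroots, ¬ torusE6.size chevE6 q ∣
      (Nat.gcd 3 (torusE6.size chevE6 q).natAbs : ℤ) * torusE6.expo chevE6 q s) ∧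
    (∀ s < chevE6.nroots, torusE6.size chevE6 q ∣
      (Nat.gcd 3 (torusE6.size chevE6 q).natAbs : ℤ) * (torusE6.expo chevE6 q s - 1) →
        s = torusE6.alpha) := by decide +kernel

/-- The torus of order `size q / gcd(3, size q)`. -/
theorem exists_torusE6 {F : Type*} [Field F] [Fintype F] {q m : ℕ} (hq : Fintype.card F = q)
    (hq0 : 2 ≤ q) (hm : (m : ℤ) = torusE6.size chevE6 q)
    (hlarge : 13 ≤ q → (q : ℤ) ^ chevE6.rank ≤ 2 * torusE6.size chevE6 q)
    (hdq : 3 ∣ m → (3 : ℤ) ∣ (q : ℤ) - 1) :
    ∃ H : Subgroup ↥(chevE6.group F), IsCyclic ↥H ∧ Nat.card ↥H = m / Nat.gcd 3 m ∧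
      Subgroup.centralizer (H : Set ↥(chevE6.group F)) = H := by
  obtain ⟨e⟩ := Chev.rootEmb_E6
  have hms : (torusE6.size chevE6 q).natAbs = m := by rw [← hm, Int.natAbs_natCast]
  obtain ⟨h1, h2⟩ : (∀ s < chevE6.nroots, ¬ torusE6.size chevE6 q ∣
      (Nat.gcd 3 m : ℤ) * torusE6.expo chevE6 q s) ∧
    (∀ s < chevE6.nroots, torusE6.size chevE6 q ∣
      (Nat.gcd 3 m : ℤ) * (torusE6.expo chevE6 q s - 1) → s = torusE6.alpha) := by
    rcases Nat.lt_or_ge q 13 with h | h
    · have := torusE6_small q h hq0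
      rwa [hms] at this
    · exact large_unique torusE6_checked (d := 3) (Nat.gcd_pos_of_pos_left m (by omega))
        (Nat.gcd_le_left m (by omega)) (b := 1) (by omega) torusE6_bound (hlarge h)
  exact exists_selfCentralizing_cyclic_adjoint Chev.E6.good Chev.BNSetup.facts_chevE6
    Chev.BNSetup.negTri_chevE6 Chev.stData_chevE6 Chev.E8.good Chev.BNSetup.facts_chevE8 e
    torusE6_obs bmE6 (d := 3) Nat.prime_three
    (by rw [← TorusData.list_range_sum_eq]; exact_mod_cast torusE6_sum)
    (fun i hi k hk => (TorusData.list_range_sum_eq _ _).symm.trans (bmE6_right i hi k hk))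
    (fun i hi k hk => (TorusData.list_range_sum_eq _ _).symm.trans (bmE6_left i hi k hk))
    torusE6_checked hq hm hdq h1 h2

end Cfsg.Agent.TorusE6E7
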