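import Cfsg.Agent.Lib.Chev.CheckE7
import Cfsg.Agent.Lib.Chev.CheckE8
import Cfsg.Agent.Lib.Chev.BNFacts
import Cfsg.Agent.Lib.Chev.Steinberg.Witness
import Cfsg.Agent.Lib.TorusE6E7.Check
import Cfsg.Agent.Lib.TorusE6E7.Main

/-!
# The twisted torus of type E7: tables
-/

set_option autoImplicit false
set_option maxRecDepth 100000
set_option maxHeartbeats 4000000

namespace Cfsg.Agent.TorusE6E7

open Cfsg.Lie Cfsg.Agent.LangSteinberg

/-- The tables. -/
def torusE7 : TorusData where
  word := [2, 6, 5, 3, 4, 3, 2, 0, 5, 2, 3, 1, 4]
  alpha := 4
  g := [1, 0, -1, 1, 1, -1, 0]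
  coord := [[124077414, 124077415, 124077671, 124081767, 124147303, 125195879, 141973095, 124081783, 124147319, 125195895, 141973111, 124151415, 125199991, 141977207, 125265527, 142042743], [143091319, 124151671, 125200247, 141977463, 125265783, 142042999, 143091575, 125269879, 142047095, 143095671, 143161207, 125269895, 142047111, 143095687, 143161223, 143165319], [143165575, 124151672, 125200248, 141977464, 125265784, 142043000, 143091576, 125269880, 142047096, 143095672, 143161208, 125270136, 142047352, 143095928, 143161464, 143165560], [125269896, 142047112, 143095688, 143161224, 143165320, 125270152, 142047368, 143095944, 143161480, 125274248, 142051464, 143100040, 125339784, 142117000, 126388360, 159942792], [144214152, 160991368, 143231112, 144279688, 161056904, 143169672, 143235208, 144283784, 161061000, 143165832, 143169928, 143235464, 144284040, 161061256, 143165592, 143169688], [143235224, 144283800, 161061016, 143169944, 143235480, 144284056, 161061272, 143239576, 144288152, 161065368, 144353688, 161130904, 162179480, 143165577, 143165833, 143169929], [143235465, 144284041,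 161061257, 143169945, 143235481, 144284057, 161061273, 143239577, 144288153, 161065369, 144353689, 161130905, 162179481, 143239833, 144288409, 161065625], [144353945, 161131161, 162179737, 144358041, 161135257, 162183833, 162249369, 144358057, 161135273, 162183849, 162249385, 162253481, 162253737, 162253738]]
  orb := [[143161496, 126384264, 142120841, 126449816, 143165577, 142117000, 143100296, 126449560, 143165321, 142116744, 143100040, 127494296, 126445719, 127429015, 143161480, 144144776], [143096199, 143230873, 142182296, 143165592, 158898057, 159881353, 158832776, 143227032, 144210328, 143161751, 159877512, 143226776, 144210072, 143161495, 159877256, 144206231], [159942808, 126453641, 125405064, 126388360, 142120825, 143104121, 142055544, 126449800, 127433096, 126384519, 143100280, 142186377, 143169673, 142121096, 158836857, 143165832], [126449544, 127432840, 126384263, 143100024, 127428999, 142186121, 143169417, 142120840, 158836601, 126515096, 127498392, 126449815, 143230857, 144214153, 142182280, 144148872], [142116999, 143100295, 159881337, 158832760, 159816056, 127494551, 144210312,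 143161735, 144145031, 158902153, 143231128, 159946889, 158898312, 159881608, 143165320, 127494295], [144210056, 143161479, 144144775, 143230872, 159946633, 158898056, 159881352, 144275608, 143227031, 144210327, 159942792, 160926088, 159877511, 126388344, 142124921, 126453896], [143169657, 142121080, 143104376, 126453640, 143169401, 142120824, 143104120, 127498376, 126449799, 127433095, 143165560, 144148856, 143100279, 143234953, 142186376, 143169672], [158902137, 159885433, 158836856, 143231112, 144214408, 143165831, 159881592, 143230856, 144214152, 143165575, 159881336, 144210311, 159946888, 143169656]]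

/-- `2` times the inverse Cartan matrix. -/
def bmE7 (i j : ℕ) : ℤ := (([[4, 4, 6, 8, 6, 4, 2], [4, 7, 8, 12, 9, 6, 3], [6, 8, 12, 16, 12, 8, 4], [8, 12, 16, 24, 18, 12, 6], [6, 9, 12, 18, 15, 10, 5], [4, 6, 8, 12, 10, 8, 4], [2, 3, 4, 6, 5, 4, 3]] : List (List ℤ)).getD i []).getD j 0

theorem bmE7_right : ∀ i < chevE7.rank, ∀ k < chevE7.rank,
    ((List.range chevE7.rank).map fun j => chevE7.cartan i (chevE7.simple j) * bmE7 j k).sum =
      if i = k then (2 : ℤ) else 0 := by decide +kernel

theorem bmE7_left : ∀ j < chevE7.rank, ∀ k < chevE7.rank,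
    ((List.range chevE7.rank).map fun i => bmE7 j i * chevE7.cartan i (chevE7.simple k)).sum =
      if j = k then (2 : ℤ) else 0 := by decide +kernel

theorem torusE7_checked : torusE7.Checked chevE7 where
  rank_pos := by decide +kernel
  word_lt := by decide +kernel
  alpha_lt := by decide +kernel
  g_zero := by decide +kernel
  cartan_eq := by decide +kernel
  refl_eq := by decide +kernel
  coord_nodup := by decide +kernel
  coord_orb := by decide +kernel
  orb_coord := by decide +kernel
  base_orb := by decide +kernel
  coord_ne := by decide +kernel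
  shift := by decide +kernel

theorem torusE7_obs : ObsData torusE7 chevE7 chevE8 1 [1, 0, 0, 1, 0, -1, 1] where
  lt := by decide +kernel
  comb := by decide +kernel
  ann := by decide +kernel

theorem torusE7_sum :
    (2 : ℤ) ∣ ((List.range chevE7.rank).map fun j => ([1, 0, 0, 1, 0, -1, 1] : List ℤ).getD j 0).sum := by decide +kernel

theorem torusE7_bound : ∀ s < chevE7.nroots, ∀ j < chevE7.rank, (torusE7.ac s j).natAbs ≤ 2 := by
  decide +kernel

theorem torusE7_small : ∀ q < 13, 2 ≤ q →
    (∀ s < chevE7.nroots, ¬ torusE7.size chevE7 q ∣
      (Nat.gcd 2 (torusE7.size chevE7 q).natAbs : ℤ) * torusE7.expo chevE7 q s) ∧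
    (∀ s < chevE7.nroots, torusE7.size chevE7 q ∣
      (Nat.gcd 2 (torusE7.size chevE7 q).natAbs : ℤ) * (torusE7.expo chevE7 q s - 1) →
        s = torusE7.alpha) := by decide +kernel

/-- The torus of order `size q / gcd(2, size q)`. -/
theorem exists_torusE7 {F : Type*} [Field F] [Fintype F] {q m : ℕ} (hq : Fintype.card F = q)
    (hq0 : 2 ≤ q) (hm : (m : ℤ) = torusE7.size chevE7 q)
    (hlarge : 13 ≤ q → (q : ℤ) ^ chevE7.rank ≤ 2 * torusE7.size chevE7 q)
    (hdq : 2 ∣ m → (2 : ℤ) ∣ (q : ℤ) - 1) :
    ∃ H : Subgroup ↥(chevE7.group F), IsCyclic ↥H ∧ Nat.card ↥H = m / Nat.gcd 2 m ∧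
      Subgroup.centralizer (H : Set ↥(chevE7.group F)) = H := by
  obtain ⟨e⟩ := Chev.rootEmb_E7
  have hms : (torusE7.size chevE7 q).natAbs = m := by rw [← hm, Int.natAbs_natCast]
  obtain ⟨h1, h2⟩ : (∀ s < chevE7.nroots, ¬ torusE7.size chevE7 q ∣
      (Nat.gcd 2 m : ℤ) * torusE7.expo chevE7 q s) ∧
    (∀ s < chevE7.nroots, torusE7.size chevE7 q ∣
      (Nat.gcd 2 m : ℤ) * (torusE7.expo chevE7 q s - 1) → s = torusE7.alpha) := by
    rcases Nat.lt_or_ge q 13 with h | h
    · have := torusE7_small q h hq0
      rwa [hms] at this
    · exact large_unique torusE7_checked (d := 2) (Nat.gcd_pos_of_pos_left m (by omega))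
        (Nat.gcd_le_left m (by omega)) (b := 2) (by omega) torusE7_bound (hlarge h)
  exact exists_selfCentralizing_cyclic_adjoint Chev.E7.good Chev.BNSetup.facts_chevE7
    Chev.BNSetup.negTri_chevE7 Chev.stData_chevE7 Chev.E8.good Chev.BNSetup.facts_chevE8 e
    torusE7_obs bmE7 (d := 2) Nat.prime_two
    (by rw [← TorusData.list_range_sum_eq]; exact_mod_cast torusE7_sum)
    (fun i hi k hk => (TorusData.list_range_sum_eq _ _).symm.trans (bmE7_right i hi k hk))
    (fun i hi k hk => (TorusData.list_range_sum_eq _ _).symm.trans (bmE7_left i hi k hk))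
    torusE7_checked hq hm hdq h1 h2

end Cfsg.Agent.TorusE6E7
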